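import Mathlib
import Groth.Agent.HorrocksLib.Charts

/-!
# Factorisation of invertible matrices of Laurent polynomials
-/

set_option autoImplicit false
set_option linter.style.haveILetI false

universe u

namespace Groth.Agent.BirkhoffFact

open Polynomial Matrix
open scoped LaurentPolynomial
open Groth.Agent.HorrocksLib

variable {k : Type u} [Field k]

local notation "S" => LaurentPolynomial k

section Block

variable {R R' : Type*} [CommRing R] [CommRing R'] {n : ℕ}

/-- Block upper triangular matrix. -/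
def bd (u : R) (r : Fin n → R) (B : Matrix (Fin n) (Fin n) R) : Matrix (Fin (n + 1)) (Fin (n + 1)) R :=
  Matrix.of (Fin.cons (Fin.cons u r) (fun i => Fin.cons 0 (B i)))

@[simp] theorem bd_zero_zero (u : R) (r : Fin n → R) (B) : bd u r B 0 0 = u := rfl
@[simp] theorem bd_zero_succ (u : R) (r : Fin n → R) (B) (j) : bd u r B 0 (Fin.succ j) = r j := rfl
@[simp] theorem bd_succ_zero (u : R) (r : Fin n → R) (B) (i : Fin n) : bd u r B i.succ 0 = 0 := rfl
@[simp] theorem bd_succ_succ (u : R) (r : Fin n → R) (B) (i j : Fin n) :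
    bd u r B i.succ j.succ = B i j := rfl

theorem bd_mul (u u' : R) (r r' : Fin n → R) (B B' : Matrix (Fin n) (Fin n) R) :
    bd u r B * bd u' r' B' = bd (u * u') (u • r' + r ᵥ* B') (B * B') := by
  ext i j
  rw [Matrix.mul_apply, Fin.sum_univ_succ]
  refine Fin.cases ?_ (fun i => ?_) i <;> refine Fin.cases ?_ (fun j => ?_) j <;>
    simp [Matrix.vecMul, dotProduct, Matrix.mul_apply]

theorem bd_one : bd (1 : R) (0 : Fin n → R) (1 : Matrix (Fin n) (Fin n) R) = 1 := by
  ext i j
  refine Fin.cases ?_ (fun i => ?_) i <;> refine Fin.cases ?_ (fun j => ?_) j <;>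
    simp [Matrix.one_apply, Fin.succ_ne_zero, (Fin.succ_ne_zero _).symm]

theorem bd_map (f : R →+* R') (u : R) (r : Fin n → R) (B : Matrix (Fin n) (Fin n) R) :
    (bd u r B).map f = bd (f u) (f ∘ r) (B.map f) := by
  ext i j
  refine Fin.cases ?_ (fun i => ?_) i <;> refine Fin.cases ?_ (fun j => ?_) j <;> simp

theorem bd_diagonal (a : R) (d : Fin n → R) :
    bd a 0 (Matrix.diagonal d) = Matrix.diagonal (Fin.cons a d) := by
  ext i j
  refine Fin.cases ?_ (fun i => ?_) i <;> refine Fin.cases ?_ (fun j => ?_) j <;>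
    simp [Matrix.diagonal, Fin.succ_ne_zero, (Fin.succ_ne_zero _).symm]

theorem eq_bd (M : Matrix (Fin (n + 1)) (Fin (n + 1)) R) (u : R)
    (h : ∀ i, M i 0 = (Pi.single 0 u : Fin (n + 1) → R) i) :
    M = bd u (fun j => M 0 j.succ) (Matrix.of fun i j => M i.succ j.succ) := by
  ext i j
  refine Fin.cases ?_ (fun i => ?_) i <;> refine Fin.cases ?_ (fun j => ?_) j <;>
    simp [h, Pi.single_apply, Fin.succ_ne_zero]

theorem det_bd (u : R) (r : Fin n → R) (B : Matrix (Fin n) (Fin n) R) : (bd u r B).det = u * B.det := by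
  rw [Matrix.det_succ_column_zero, Fin.sum_univ_succ, Finset.sum_eq_zero (fun i _ => by simp), add_zero]
  simp only [Fin.val_zero, pow_zero, one_mul, bd_zero_zero]
  rfl

theorem isUnit_bd {u : R} (hu : IsUnit u) (r : Fin n → R) {B : Matrix (Fin n) (Fin n) R} (hB : IsUnit B) :
    IsUnit (bd u r B) := by
  rw [Matrix.isUnit_iff_isUnit_det, det_bd]
  exact hu.mul ((Matrix.isUnit_iff_isUnit_det B).1 hB)

end Block

/-- The substitution `T ↦ T⁻¹` on `k[T]`. -/
noncomputable abbrev c1 : k[X] →+* S := chart1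

theorem map_c1 {n : ℕ} (Q : Matrix (Fin n) (Fin n) k[X]) :
    (Q.map Polynomial.toLaurent).map (LaurentPolynomial.invert (R := k)) = Q.map (c1 (k := k)) := by
  ext i j; rfl

theorem isUnit_map {R R' : Type*} [CommRing R] [CommRing R'] (f : R →+* R') {n : ℕ}
    {Q : Matrix (Fin n) (Fin n) R} (hQ : IsUnit Q) : IsUnit (Q.map f) :=
  hQ.map f.mapMatrix

theorem eq_zero_of_c1_eq (q p : k[X]) (m : ℕ)
    (h : chart1 q = (chart0 (X ^ (m + 1) * p) : S)) : q = 0 := by
  have h1 := chart0_reflect q q.natDegree le_rfl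
  rw [h, ← map_pow, ← map_mul] at h1
  have h2 : q.reflect q.natDegree = X ^ (q.natDegree + (m + 1)) * p := by
    rw [chart0_injective h1]; ring
  by_cases hp : p = 0
  · rw [hp, mul_zero, map_zero] at h
    exact chart1_injective (by rw [h, map_zero])
  · have h3 := natDegree_reflect_le' q q.natDegree le_rfl
    rw [h2, natDegree_mul (pow_ne_zero _ X_ne_zero) hp, natDegree_X_pow] at h3
    omega

theorem exists_split (y : S) : ∃ q s : k[X], y = chart1 q + LaurentPolynomial.T 1 * chart0 s := by
  induction y using LaurentPolynomial.induction_on' with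
  | add a b ha hb =>
    obtain ⟨q, s, rfl⟩ := ha
    obtain ⟨q', s', rfl⟩ := hb
    exact ⟨q + q', s + s', by rw [map_add, map_add]; ring⟩
  | C_mul_T n a =>
    by_cases hn : n ≤ 0
    · refine ⟨Polynomial.C a * X ^ n.natAbs, 0, ?_⟩
      rw [map_zero, mul_zero, add_zero, chart1_apply, Polynomial.toLaurent_C_mul_X_pow, map_mul,
        LaurentPolynomial.invert_C, LaurentPolynomial.invert_T]
      congr 2
      omega
    · refine ⟨0, Polynomial.C a * X ^ (n - 1).natAbs, ?_⟩
      rw [map_zero, zero_add, Polynomial.toLaurent_C_mul_X_pow, mul_left_comm, ← LaurentPolynomial.T_add]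
      congr 2
      omega

theorem exists_completion {R : Type u} [CommRing R] [IsDomain R] [IsPrincipalIdealRing R] {n : ℕ}
    (p : Fin (n + 1) → R) (hp : p ≠ 0) :
    ∃ (P : Matrix (Fin (n + 1)) (Fin (n + 1)) R) (g : R), IsUnit P ∧ g ≠ 0 ∧ ∀ i, p i = P i 0 * g := by
  classical
  obtain ⟨g, hg⟩ : ∃ g, Ideal.span (Set.range p) = Ideal.span {g} :=
    (IsPrincipalIdealRing.principal (Ideal.span (Set.range p))).principal
  have hdiv : ∀ i, ∃ c, p i = g * c := fun i => Ideal.mem_span_singleton.1
    (hg ▸ Ideal.subset_span ⟨i, rfl⟩)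
  choose u hu using hdiv
  obtain ⟨a, ha⟩ := (Ideal.mem_span_range_iff_exists_fun).1 (hg.ge (Ideal.mem_span_singleton_self g))
  have hg0 : g ≠ 0 := fun h => hp (funext fun i => by rw [hu i, h, zero_mul]; rfl)
  have hau : ∑ i, a i * u i = 1 := by
    refine mul_left_cancel₀ hg0 ?_
    rw [mul_one, Finset.mul_sum]
    conv_rhs => rw [← ha]
    exact Finset.sum_congr rfl fun i _ => by rw [hu i]; ring
  let φ : (Fin (n + 1) → R) →ₗ[R] R := ∑ i, a i • LinearMap.proj i
  have hφ : φ u = 1 := by simp [φ, hau]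
  let K := LinearMap.ker φ
  let e : (Fin (n + 1) → R) ≃ₗ[R] R × K :=
    { toFun := fun v => (φ v, ⟨v - φ v • u, by simp [K, hφ]⟩)
      map_add' := fun v w => by
        refine Prod.ext (map_add φ v w) (Subtype.ext ?_)
        simp [add_smul]; abel
      map_smul' := fun c v => by
        refine Prod.ext (map_smul φ c v) (Subtype.ext ?_)
        simp [smul_sub, smul_smul]
      invFun := fun x => x.1 • u + x.2.1
      left_inv := fun v => by simp
      right_inv := fun x => by
        have hx : φ x.2.1 = 0 := x.2.2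
        have h1 : φ (x.1 • u + x.2.1) = x.1 := by rw [map_add, map_smul, hφ, hx]; simp
        exact Prod.ext h1 (Subtype.ext (by simp [h1])) }
  have hfr : Module.finrank R K = n := by
    have := e.finrank_eq
    rw [Module.finrank_fin_fun, Module.finrank_prod, Module.finrank_self] at this
    omega
  let b := Module.finBasisOfFinrankEq R K hfr
  let P : Matrix (Fin (n + 1)) (Fin (n + 1)) R :=
    Matrix.of fun i => Fin.cons (u i) (fun j => (b j : Fin (n + 1) → R) i)
  refine ⟨P, g, Matrix.mulVec_surjective_iff_isUnit.1 fun v => ?_, hg0, fun i => (hu i).trans (mul_comm _ _)⟩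
  refine ⟨Fin.cons (φ v) (b.repr (e v).2), funext fun i => ?_⟩
  have h2 := congrArg (fun w : K => (w : Fin (n + 1) → R) i) (b.sum_repr (e v).2)
  simp only [Submodule.coe_sum, Submodule.coe_smul, Finset.sum_apply, Pi.smul_apply, smul_eq_mul] at h2
  rw [Matrix.mulVec, dotProduct, Fin.sum_univ_succ]
  simp only [P, Matrix.of_apply, Fin.cons_zero, Fin.cons_succ]
  rw [Finset.sum_congr rfl fun j _ => mul_comm _ _, h2]
  show u i * φ v + (v i - φ v * u i) = v i
  ring

theorem exists_lower {m : ℕ} (f : Fin m → S) :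
    ∃ (N : ℕ) (p : Fin m → k[X]), ∀ i, chart0 (p i) = LaurentPolynomial.T (N : ℤ) * f i := by
  classical
  choose n p hp using fun i => LaurentPolynomial.exists_T_pow (f i)
  refine ⟨Finset.univ.sup n, fun i => X ^ (Finset.univ.sup n - n i) * p i, fun i => ?_⟩
  have hle : n i ≤ Finset.univ.sup n := Finset.le_sup (Finset.mem_univ i)
  show Polynomial.toLaurent _ = _
  rw [map_mul, Polynomial.toLaurent_X_pow, hp i, mul_left_comm, ← LaurentPolynomial.T_add, mul_comm]
  congr 2
  omega

/-- Some admissible first column is divisible by `T^a` at the origin. -/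
def Good {n : ℕ} (A : Matrix (Fin (n + 1)) (Fin (n + 1)) S) (a : ℤ) : Prop :=
  ∃ (Q : Matrix (Fin (n + 1)) (Fin (n + 1)) k[X]) (p : Fin (n + 1) → k[X]), IsUnit Q ∧
    ∀ i, (A * Q.map c1) i 0 = LaurentPolynomial.T a * chart0 (p i)

theorem exists_max_good {n : ℕ} (A : Matrix (Fin (n + 1)) (Fin (n + 1)) S) (hA : IsUnit A) :
    ∃ a, Good A a ∧ ∀ b, Good A b → b ≤ a := by
  classical
  obtain ⟨N, p₀, hp₀⟩ := exists_lower (fun i => A i 0)
  have h0 : Good A (-(N : ℤ)) := ⟨1, p₀, isUnit_one, fun i => by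
    rw [Matrix.map_one _ (map_zero _) (map_one _), mul_one, hp₀, ← mul_assoc, ← LaurentPolynomial.T_add,
      neg_add_cancel, LaurentPolynomial.T_zero, one_mul]⟩
  obtain ⟨B, hB⟩ := hA.exists_left_inv
  choose M w hw using fun i => exists_lower (fun l => B i l)
  let M₀ := Finset.univ.sup M
  have hbd : ∀ b, Good A b → b ≤ (M₀ : ℤ) := by
    rintro b ⟨Q, p, hQ, hp⟩
    by_contra hb
    have hz : ∀ i, Q i 0 = 0 := by
      intro i
      obtain ⟨m, hm⟩ := Int.eq_ofNat_of_zero_le (show (0 : ℤ) ≤ b - M i - 1 by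
        have : M i ≤ M₀ := Finset.le_sup (Finset.mem_univ i)
        omega)
      refine eq_zero_of_c1_eq (Q i 0) (∑ l, w i l * p l) m ?_
      have h1 : chart1 (Q i 0) = ∑ l, B i l * (A * Q.map c1) l 0 := by
        have : (B * (A * Q.map c1)) i 0 = chart1 (Q i 0) := by
          rw [← Matrix.mul_assoc, hB, Matrix.one_mul]; rfl
        rw [← this, Matrix.mul_apply]
      rw [h1, map_mul, map_pow, Polynomial.toLaurent_X, LaurentPolynomial.T_pow, map_sum, Finset.mul_sum]
      refine Finset.sum_congr rfl fun l _ => ?_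
      rw [hp, map_mul, hw]
      rw [show LaurentPolynomial.T b =
          (LaurentPolynomial.T (((m + 1 : ℕ) : ℤ) * 1) * LaurentPolynomial.T (M i : ℤ) : S) by
        rw [← LaurentPolynomial.T_add]; congr 1; omega]
      ring
    have hdet : Q.det = 0 := Matrix.det_eq_zero_of_column_eq_zero 0 hz
    exact not_isUnit_zero (hdet ▸ (Matrix.isUnit_iff_isUnit_det Q).1 hQ)
  obtain ⟨a, ha, hmax⟩ := Int.exists_greatest_of_bdd ⟨(M₀ : ℤ), hbd⟩ ⟨_, h0⟩
  exact ⟨a, ha, hmax⟩

theorem exists_factor : ∀ (n : ℕ) (A : Matrix (Fin n) (Fin n) S), IsUnit A →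
    ∃ (P Q : Matrix (Fin n) (Fin n) k[X]) (d : Fin n → ℤ), IsUnit P ∧ IsUnit Q ∧ Antitone d ∧
      A = P.map chart0 * Matrix.diagonal (fun i => LaurentPolynomial.T (d i)) * Q.map c1
  | 0, A, _ => ⟨1, 1, fun i => i.elim0, isUnit_one, isUnit_one, fun i => i.elim0, Subsingleton.elim _ _⟩
  | n + 1, A, hA => by
    classical
    obtain ⟨a, ⟨Q₀, p, hQ₀, hp⟩, hmax⟩ := exists_max_good A hA
    have hv : IsUnit (A * Q₀.map c1) := hA.mul (isUnit_map c1 hQ₀)
    have hp0 : p ≠ 0 := fun h => by
      have h' : (A * Q₀.map (c1 (k := k))).det = 0 := Matrix.det_eq_zero_of_column_eq_zero 0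
        (fun i => by rw [hp i, h, Pi.zero_apply, map_zero, mul_zero])
      exact not_isUnit_zero (h' ▸ (Matrix.isUnit_iff_isUnit_det _).1 hv)
    obtain ⟨P, g, hP, hg, hPg⟩ := exists_completion p hp0
    obtain ⟨Pi', hPi'⟩ := hP.exists_left_inv
    let M : Matrix (Fin (n + 1)) (Fin (n + 1)) S := Pi'.map chart0 * (A * Q₀.map c1)
    have hPi'u : IsUnit Pi' := (Matrix.isUnit_iff_isUnit_det _).2
      (IsUnit.of_mul_eq_one _ (by rw [← Matrix.det_mul, hPi', Matrix.det_one]))
    have hMu : IsUnit M := (isUnit_map chart0 hPi'u).mul hv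
    have hcol : ∀ i, M i 0 = (Pi.single 0 (LaurentPolynomial.T a * chart0 g) : Fin (n + 1) → S) i := by
      intro i
      have h1 : M i 0 = LaurentPolynomial.T a * chart0 ((Pi' * P) i 0 * g) := by
        show (Pi'.map chart0 * (A * Q₀.map c1)) i 0 = _
        rw [Matrix.mul_apply, Matrix.mul_apply, Finset.sum_mul, map_sum, Finset.mul_sum]
        refine Finset.sum_congr rfl fun l _ => ?_
        rw [hp, hPg l, Matrix.map_apply, map_mul, map_mul, map_mul]
        ring
      rw [h1, hPi', Matrix.one_apply, Pi.single_apply]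
      split_ifs <;> simp
    have hMbd := eq_bd M _ hcol
    have hdetM : IsUnit M.det := (Matrix.isUnit_iff_isUnit_det M).1 hMu
    rw [hMbd, det_bd, IsUnit.mul_iff] at hdetM
    have hgu : IsUnit (chart0 g : S) := (IsUnit.mul_iff.1 hdetM.1).2
    -- the common factor is a power of `X`, hence a constant
    obtain ⟨g', hg'⟩ := hgu.exists_right_inv
    obtain ⟨N, s, hs⟩ := LaurentPolynomial.exists_T_pow g'
    have hgs : g * s = X ^ N := chart0_injective (by
      show Polynomial.toLaurent (g * s) = Polynomial.toLaurent (X ^ N)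
      rw [map_mul, hs, Polynomial.toLaurent_X_pow, ← mul_assoc]
      rw [show Polynomial.toLaurent g * g' = 1 from hg', one_mul])
    obtain ⟨e, -, hge⟩ := (dvd_prime_pow (Polynomial.prime_X (R := k)) N).1 ⟨s, hgs.symm⟩
    obtain ⟨c, hc⟩ := hge.symm
    have he : e = 0 := by
      by_contra he
      have hgood : Good A (a + e) := ⟨Q₀, fun i => P i 0 * (c : k[X]), hQ₀, fun i => by
        rw [hp, hPg i, ← hc, map_mul, map_mul, map_mul, Polynomial.toLaurent_X_pow,
          LaurentPolynomial.T_add]
        ring⟩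
      have := hmax _ hgood
      omega
    rw [he, pow_zero, one_mul] at hc
    -- normalise the scalar into `P`
    let U₁ : Matrix (Fin (n + 1)) (Fin (n + 1)) k[X] := bd (c : k[X]) 0 1
    have hU₁ : IsUnit U₁ := isUnit_bd c.isUnit _ isUnit_one
    let r₀ : Fin n → S := fun j => M 0 j.succ
    let A' : Matrix (Fin n) (Fin n) S := Matrix.of fun i j => M i.succ j.succ
    have hA' : IsUnit A' := (Matrix.isUnit_iff_isUnit_det A').2 hdetM.2
    obtain ⟨P', Q', d, hP', hQ', hd, hA'eq⟩ := exists_factor n A' hA'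
    obtain ⟨Q'i, hQ'i⟩ := hQ'.exists_left_inv
    let r : Fin n → S := (chart0 ((c⁻¹ : k[X]ˣ) : k[X]) • r₀) ᵥ* Q'i.map c1
    have hr : r ᵥ* Q'.map c1 = chart0 ((c⁻¹ : k[X]ˣ) : k[X]) • r₀ := by
      simp only [r, Matrix.vecMul_vecMul, ← Matrix.map_mul, hQ'i, Matrix.map_one _ (map_zero _) (map_one _),
        Matrix.vecMul_one]
    let D : Matrix (Fin n) (Fin n) S := Matrix.diagonal fun i => LaurentPolynomial.T (d i)
    have hM : M = (U₁.map chart0) * ((bd 1 0 P').map chart0 * bd (LaurentPolynomial.T a) r D *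
        (bd 1 0 Q').map c1) := by
      rw [hMbd]
      simp only [U₁, bd_map, bd_mul, map_one, map_zero, Matrix.map_one _ (map_zero _) (map_one _),
        Function.comp_def, ← hc, one_mul, mul_one]
      simp only [Pi.zero_apply, map_zero]
      simp only [← Pi.zero_def, smul_zero, zero_add, Matrix.zero_vecMul, add_zero, one_smul, hr]
      congr 1
      · rw [mul_comm]
      · rw [smul_smul, ← map_mul, Units.mul_inv, map_one, one_smul]
    -- split the first row
    choose q s hqs using fun j => exists_split (LaurentPolynomial.T (-a) * r j)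
    have hrj : ∀ j, r j = LaurentPolynomial.T a * chart1 (q j) + LaurentPolynomial.T (a + 1) * chart0 (s j) := by
      intro j
      rw [LaurentPolynomial.T_add, mul_assoc, ← mul_add, ← hqs, ← mul_assoc, ← LaurentPolynomial.T_add,
        add_neg_cancel, LaurentPolynomial.T_zero, one_mul]
    let V₁ : Matrix (Fin (n + 1)) (Fin (n + 1)) k[X] := P * U₁ * bd 1 0 P'
    have hV₁ : IsUnit V₁ := (hP.mul hU₁).mul (isUnit_bd isUnit_one _ hP')
    have hAeq : A * (Q₀ * bd 1 0 Q'i).map c1 = V₁.map chart0 * bd (LaurentPolynomial.T a) r D := by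
      have h1 : A * Q₀.map c1 = P.map chart0 * M := by
        show _ = P.map chart0 * (Pi'.map chart0 * _)
        rw [← Matrix.mul_assoc, ← Matrix.map_mul, mul_eq_one_comm.1 hPi', Matrix.map_one _ (map_zero _) (map_one _),
          Matrix.one_mul]
      have h2 : (bd 1 0 Q').map (c1 (k := k)) * (bd 1 0 Q'i).map c1 = 1 := by
        rw [← Matrix.map_mul, bd_mul, mul_one, mul_eq_one_comm.1 hQ'i]
        simp [bd_one]
      rw [Matrix.map_mul, ← Matrix.mul_assoc, h1, hM]
      simp only [V₁, Matrix.map_mul, Matrix.mul_assoc, h2, Matrix.mul_one]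
    -- maximality of `a`
    have hda : ∀ j, d j ≤ a := by
      intro j
      by_contra hj
      obtain ⟨m, hm⟩ := Int.eq_ofNat_of_zero_le (show (0 : ℤ) ≤ d j - (a + 1) by omega)
      let W : Matrix (Fin (n + 1)) (Fin (n + 1)) k[X] :=
        (Q₀ * bd 1 0 Q'i) * bd 1 (-q) 1
      let σ : Equiv.Perm (Fin (n + 1)) := Equiv.swap 0 j.succ
      have hWu : IsUnit W := (hQ₀.mul (isUnit_bd isUnit_one _ ((Matrix.isUnit_iff_isUnit_det _).2
        (IsUnit.of_mul_eq_one _ (by rw [← Matrix.det_mul, hQ'i, Matrix.det_one]))))).mul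
        (isUnit_bd isUnit_one _ isUnit_one)
      let w : Fin (n + 1) → k[X] := Fin.cons (s j) (Pi.single j (X ^ m))
      have hgood : Good A (a + 1) := by
        refine ⟨W.submatrix id σ, fun i => ∑ l, V₁ i l * w l, ?_, fun i => ?_⟩
        · rw [Matrix.isUnit_iff_isUnit_det, Matrix.det_permute']
          exact ((Units.isUnit _).map (Int.castRingHom k[X])).mul ((Matrix.isUnit_iff_isUnit_det W).1 hWu)
        · have h3 : (A * (W.submatrix id σ).map c1) i 0 = (A * W.map c1) i j.succ := by
            simp [Matrix.mul_apply, σ]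
          rw [h3]
          show (A * ((Q₀ * bd 1 0 Q'i) * bd 1 (-q) 1).map c1) i j.succ = _
          rw [Matrix.map_mul, ← Matrix.mul_assoc, hAeq, Matrix.mul_assoc, bd_map, map_one,
            Matrix.map_one _ (map_zero _) (map_one _), bd_mul, mul_one, Matrix.mul_one, Matrix.vecMul_one,
            Matrix.mul_apply, map_sum, Finset.mul_sum]
          refine Finset.sum_congr rfl fun l _ => ?_
          rw [Matrix.map_apply, map_mul, mul_left_comm]
          congr 1
          refine Fin.cases ?_ (fun l => ?_) l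
          · simp only [w, Fin.cons_zero, bd_zero_succ, Pi.add_apply, Pi.smul_apply, Function.comp_apply,
              Pi.neg_apply, map_neg, smul_eq_mul, hrj j]
            ring
          · simp only [w, Fin.cons_succ, bd_succ_succ, D, Matrix.diagonal_apply, Pi.single_apply]
            split_ifs with hlj
            · subst hlj
              rw [Polynomial.toLaurent_X_pow, ← LaurentPolynomial.T_add]
              congr 1
              omega
            · simp
      have := hmax _ hgood
      omega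
    choose e₁ he₁ using fun j => Int.eq_ofNat_of_zero_le (show (0 : ℤ) ≤ a + 1 - d j by have := hda j; omega)
    let s' : Fin n → k[X] := fun j => X ^ e₁ j * s j
    have hfinal : bd (LaurentPolynomial.T a) r D =
        (bd 1 s' 1).map chart0 * Matrix.diagonal (fun i => LaurentPolynomial.T ((Fin.cons a d : Fin (n + 1) → ℤ) i)) *
          (bd 1 q 1).map c1 := by
      have hcons : (fun i => LaurentPolynomial.T ((Fin.cons a d : Fin (n + 1) → ℤ) i) : Fin (n + 1) → S) =
          Fin.cons (LaurentPolynomial.T a) fun i => LaurentPolynomial.T (d i) :=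
        funext fun i => Fin.cases rfl (fun _ => rfl) i
      rw [hcons, ← bd_diagonal, bd_map, bd_map, map_one, map_one, Matrix.map_one _ (map_zero _) (map_one _),
        Matrix.map_one _ (map_zero _) (map_one _), bd_mul, bd_mul, one_mul, mul_one, Matrix.one_mul, Matrix.mul_one,
        smul_zero, zero_add, Matrix.vecMul_one]
      congr 1
      funext j
      rw [hrj j, Pi.add_apply, Pi.smul_apply, smul_eq_mul, Function.comp_apply, Matrix.vecMul_diagonal,
        Function.comp_apply, map_mul, Polynomial.toLaurent_X_pow, mul_right_comm, ← LaurentPolynomial.T_add,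
        show (e₁ j : ℤ) + d j = a + 1 by have := he₁ j; omega]
    obtain ⟨Q₀i, hQ₀i⟩ := hQ₀.exists_left_inv
    refine ⟨V₁ * bd 1 s' 1, bd 1 q 1 * (bd 1 0 Q' * Q₀i), Fin.cons a d, hV₁.mul (isUnit_bd isUnit_one _ isUnit_one),
      (isUnit_bd isUnit_one _ isUnit_one).mul ((isUnit_bd isUnit_one _ hQ').mul ((Matrix.isUnit_iff_isUnit_det _).2
        (IsUnit.of_mul_eq_one _ (by rw [← Matrix.det_mul, hQ₀i, Matrix.det_one])))), ?_, ?_⟩
    · intro i j hij
      induction i using Fin.cases with
      | zero =>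
        induction j using Fin.cases with
        | zero => exact le_rfl
        | succ j => simpa using hda j
      | succ i =>
        induction j using Fin.cases with
        | zero => exact absurd hij (by simp [Fin.le_def])
        | succ j => simpa using hd (Fin.succ_le_succ_iff.1 hij)
    · have hinv : (Q₀ * bd 1 0 Q'i) * (bd 1 0 Q' * Q₀i) = 1 := by
        rw [Matrix.mul_assoc, ← Matrix.mul_assoc (bd 1 0 Q'i), bd_mul, mul_one, hQ'i]
        simp [bd_one, mul_eq_one_comm.1 hQ₀i]
      calc A = A * ((Q₀ * bd 1 0 Q'i) * (bd 1 0 Q' * Q₀i)).map c1 := by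
            rw [hinv, Matrix.map_one _ (map_zero _) (map_one _), Matrix.mul_one]
        _ = V₁.map chart0 * bd (LaurentPolynomial.T a) r D * (bd 1 0 Q' * Q₀i).map c1 := by
            rw [Matrix.map_mul, ← Matrix.mul_assoc, hAeq]
        _ = _ := by
            rw [hfinal]
            simp only [Matrix.map_mul, Matrix.mul_assoc]

end Groth.Agent.BirkhoffFact
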